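import Cfsg.Agent.H612.Eight.Kit
import Cfsg.Agent.H996.Eight.Interval
import Cfsg.Agent.S0293
import Cfsg.Agent.S0296

/-!
# Eight character degrees in `Ω⁺_{10}(2)` (helper612, S4899)
-/

set_option autoImplicit false

open Cfsg

namespace Cfsg.Agent.H612.Eight

open Cfsg.Agent.H674.Dl Cfsg.Agent.H477.HC

theorem charP_of_card {F : Type*} [Field F] [Fintype F] {p : ℕ} (hp : p.Prime) (h : Fintype.card F = p) :
    CharP F p := by
  have : Fact p.Prime := ⟨hp⟩
  exact charP_of_card_eq_prime h

theorem card_op102 {F : Type*} [Field F] [Fintype F] (hF : Fintype.card F = 2) :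
    Nat.card (POmega F (quadFormPlus 5 F)) = 23499295948800 := by
  have hord := Cfsg.Agent.S0293.result (F := F) hF 5 (by norm_num)
  rw [show Nat.gcd 4 (2 ^ 5 - 1) = 1 by norm_num] at hord
  simp only [Nat.reduceSub, Finset.prod_range_succ, Finset.prod_range_zero] at hord
  norm_num at hord
  omega

theorem not_dvd_of_odd_ne {j a b : ℕ} (ha : a % 2 = 1) (hb : b % 2 = 1) (hab : a ≠ b) (i : ℕ) : 2 ^ i * a ≠ 2 ^ j * b := by
  intro h
  have h2 : pp 2 (2 ^ i * a) = pp 2 (2 ^ j * b) := by rw [h]
  rw [pp_pow_mul Nat.prime_two, pp_pow_mul Nat.prime_two, pp_self (by omega), pp_self (by omega)] at h2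
  exact hab h2

theorem two_pow_mul_ne {j b : ℕ} (hb : b % 2 = 1) {n : ℕ} (hn : pp 2 n ≠ b) : n ≠ 2 ^ j * b := by
  intro h
  apply hn
  rw [h, pp_pow_mul Nat.prime_two, pp_self (by omega)]

/-- **`Ω⁺_{10}(2)` has at least eight character degrees.** -/
theorem eight_op102 {F : Type*} [Field F] [Fintype F] (hF : Fintype.card F = 2) :
    H664.Eight.Eight (POmega F (quadFormPlus 5 F)) := by
  have hq : Nat.card F = 2 := by rw [Nat.card_eq_fintype_card, hF]
  have : Fact (Nat.Prime 2) := ⟨Nat.prime_two⟩
  have : CharP F 2 := charP_of_card Nat.prime_two hF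
  have hcard := card_op102 hF
  have hfin : Finite (POmega F (quadFormPlus 5 F)) := Nat.finite_of_card_ne_zero (by rw [hcard]; norm_num)
  have hsimp : IsSimpleGroup (POmega F (quadFormPlus 5 F)) := Cfsg.Agent.S0296.result 5 (by norm_num)
  have hcc : cc (Nat.card F) = 1 := by
    unfold cc
    rw [hq, if_neg (by decide)]
  -- the two small degrees
  obtain ⟨a, b, ha, hb, ha', hb'⟩ := rk3_plus F (m := 5) (by norm_num)
  rw [hq] at ha' hb'
  norm_num at ha' hb'
  have ea : a = 186 := by omega
  have eb : b = 340 := by omega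
  subst ea eb
  have m186 := mem_of_ch ha
  have m340 := mem_of_ch hb
  -- the Steinberg degree
  have mst := steinberg_mem (F := F) (p := 2) (m := 5) (by norm_num) (k := 20) (N := 22410675) (by rw [hcard]; norm_num)
    (by norm_num)
  -- the interval
  obtain ⟨e1, m1, h1, h1'⟩ := H996.Eight.Interval.exists_between
    (H996.Eight.Interval.Small.of_mem m186 (by norm_num)) (X := 340) (by norm_num) mst (by norm_num)
  norm_num at h1'
  -- the three large ones
  have key : ∀ k D, 3 ≤ k → k ≤ 5 → D ≠ 0 → pp 2 (dg (CForm.plusF F 5) k) = D →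
      ∃ j, 2 ^ j * D ∈ charDegrees (POmega F (quadFormPlus 5 F)) := by
    intro k D hk hk5 hD0 hD
    obtain ⟨e, he⟩ := plus_dn F 2 (m := 5) (k := k) (by norm_num) (by omega) hk5 (Or.inl hk)
    obtain ⟨hm, j, f, hf, hj⟩ := mem_of_dn he hD hD0
    rw [hcc, Nat.dvd_one] at hf
    rw [hf, mul_one] at hj
    exact ⟨j, hj ▸ hm⟩
  have h3 := D_plus F 2 (k := 3) (n := 2) (m := 5) (by norm_num) (by norm_num) (by norm_num)
  have h4 := D_plus F 2 (k := 4) (n := 1) (m := 5) (by norm_num) (by norm_num) (by norm_num)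
  have h5 := D_plus_top F 2 (m := 5) (by norm_num)
  have p2 : pp 2 2 = 1 := pp_pow Nat.prime_two 1
  rw [hq] at h3 h4 h5
  rw [p2] at h5
  simp only [AP, Nat.reduceSub, Finset.prod_Ico_eq_prod_range, Finset.prod_range_succ, Finset.prod_range_zero] at h3 h4 h5
  norm_num at h3 h4 h5
  obtain ⟨j3, m3⟩ := key 3 355725 (by norm_num) (by norm_num) (by norm_num) (by omega)
  obtain ⟨j4, m4⟩ := key 4 1494045 (by norm_num) (by norm_num) (by norm_num) (by omega)
  obtain ⟨j5, m5⟩ := key 5 722925 (by norm_num) (by norm_num) (by norm_num) (by omega)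
  have hone := H664.Eight.one_mem (S := POmega F (quadFormPlus 5 F))
  refine H664.Eight.eight_of_list [1, 186, 340, e1, 2 ^ 20, 2 ^ j3 * 355725, 2 ^ j4 * 1494045, 2 ^ j5 * 722925] ?_
    (by simp) ?_
  · have b3 := Nat.one_le_two_pow (n := j3)
    have b4 := Nat.one_le_two_pow (n := j4)
    have b5 := Nat.one_le_two_pow (n := j5)
    have c34 := not_dvd_of_odd_ne (j := j4) (a := 355725) (b := 1494045) (by norm_num) (by norm_num) (by norm_num) j3
    have c35 := not_dvd_of_odd_ne (j := j5) (a := 355725) (b := 722925) (by norm_num) (by norm_num) (by norm_num) j3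
    have c45 := not_dvd_of_odd_ne (j := j5) (a := 1494045) (b := 722925) (by norm_num) (by norm_num) (by norm_num) j4
    have d3 := not_dvd_of_odd_ne (j := j3) (a := 1) (b := 355725) (by norm_num) (by norm_num) (by norm_num) 20
    have d4 := not_dvd_of_odd_ne (j := j4) (a := 1) (b := 1494045) (by norm_num) (by norm_num) (by norm_num) 20
    have d5 := not_dvd_of_odd_ne (j := j5) (a := 1) (b := 722925) (by norm_num) (by norm_num) (by norm_num) 20
    rw [mul_one] at d3 d4 d5
    simp only [List.nodup_cons, List.mem_cons, List.not_mem_nil, List.nodup_nil, not_or, not_false_eq_true, and_true,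
      or_false]
    refine ⟨⟨by norm_num, by norm_num, by omega, by norm_num, by omega, by omega, by omega⟩,
      ⟨by norm_num, by omega, by norm_num, by omega, by omega, by omega⟩,
      ⟨by omega, by norm_num, by omega, by omega, by omega⟩,
      ⟨by norm_num; omega, by omega, by omega, by omega⟩,
      ⟨d3, d4, d5⟩, ⟨c34, c35⟩, c45⟩
  · intro d hd
    simp only [List.mem_cons, List.not_mem_nil, or_false] at hd
    rcases hd with rfl | rfl | rfl | rfl | rfl | rfl | rfl | rfl
    · exact hone
    · exact m186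
    · exact m340
    · exact m1
    · exact mst
    · exact m3
    · exact m4
    · exact m5

end Cfsg.Agent.H612.Eight
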