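import Cfsg.Agent.H664.Eight.Base
import Cfsg.Agent.H674.Dl.OrthNum
import Cfsg.Agent.H477.HC.Rk3Chars
import Cfsg.Agent.S2548
import Cfsg.Agent.SmallSimple.PrimeLocal

/-!
# Kit for the degrees of small orthogonal groups of plus type (helper612, S4899)

* `mem_of_dn` : an exact degree of H674 gives a character degree `e` with `e * f = p ^ j * D`;
* `steinberg_mem` : the Steinberg degree;
* `ord_of_selfcent` : a self-centralizing subgroup of prime order `r ∥ |G|` gives `r ∣ orderOf g → orderOf g = r`.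
-/

set_option autoImplicit false

open Cfsg

namespace Cfsg.Agent.H612.Eight

open Cfsg.Agent.H674.Dl Cfsg.Agent.H477.HC

theorem mem_of_ch {S : Type*} [Group S] {d : ℕ} (h : Ch S d) : d ∈ charDegrees S := by
  obtain ⟨χ, hχ⟩ := h.exists_irr
  exact ⟨χ, hχ⟩

theorem mem_of_dn {S : Type*} [Group S] [Finite S] {p q d e D : ℕ} (h : Dn S p q d e)
    (hD : pp p d = D) (hD0 : D ≠ 0) : e ∈ charDegrees S ∧ ∃ j f, f ∣ cc q ∧ e * f = p ^ j * D := by
  obtain ⟨h1, ⟨c, rfl⟩, h3, h4⟩ := h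
  refine ⟨mem_of_ch h1, ?_⟩
  have he : 0 < e := by
    rcases Nat.eq_zero_or_pos e with h0 | h0
    · exfalso
      apply hD0
      rw [← hD, h0, zero_mul]
      unfold pp
      simp
    · exact h0
  rw [Nat.mul_div_cancel_left c he] at h3 h4
  refine ⟨e.factorization p, pp p c, h3, ?_⟩
  rw [← hD, pp_mul, ← mul_assoc]
  congr 1
  exact (Nat.ordProj_mul_ordCompl_eq_self e p).symm

theorem steinberg_mem {F : Type*} [Field F] [Fintype F] {p : ℕ} [hp : Fact p.Prime] [CharP F p] {m : ℕ} (hm : 1 ≤ m)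
    {k N : ℕ} (hcard : Nat.card (POmega F (quadFormPlus m F)) = p ^ k * N) (hN : ¬ p ∣ N) :
    p ^ k ∈ charDegrees (POmega F (quadFormPlus m F)) := by
  have hN0 : N ≠ 0 := by rintro rfl; exact hN (dvd_zero p)
  have : Finite (POmega F (quadFormPlus m F)) :=
    Nat.finite_of_card_ne_zero (by rw [hcard]; exact Nat.mul_ne_zero (pow_ne_zero _ hp.out.ne_zero) hN0)
  obtain ⟨χ, hχ, hχP⟩ := Cfsg.Agent.S2548.result (F := F) p m hm
  obtain ⟨P⟩ : Nonempty (Sylow p (POmega F (quadFormPlus m F))) := inferInstance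
  refine mem_of_ch ⟨χ, hχ, ?_⟩
  rw [(hχP P).1, P.card_eq_multiplicity, hcard, Nat.factorization_mul (pow_ne_zero _ hp.out.ne_zero) hN0,
    Finsupp.add_apply, Nat.factorization_eq_zero_of_not_dvd hN, add_zero, hp.out.factorization_pow,
    Finsupp.single_eq_same]

theorem ord_of_selfcent {G : Type*} [Group G] [Finite G] {r : ℕ} (hr : r.Prime) (h2 : ¬ r ^ 2 ∣ Nat.card G)
    {R : Subgroup G} (hR : Nat.card R = r) (hC : Subgroup.centralizer (R : Set G) = R) (g : G)
    (hg : r ∣ orderOf g) : orderOf g = r := by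
  have : Fact r.Prime := ⟨hr⟩
  obtain ⟨c, hc⟩ := hg
  have hpos : 0 < orderOf g := orderOf_pos g
  have hc0 : c ≠ 0 := by rintro rfl; omega
  -- an element of order `r`
  have hx : orderOf (g ^ c) = r := by
    rw [orderOf_pow' g hc0, hc, Nat.gcd_eq_right (Dvd.intro_left r rfl), Nat.mul_div_cancel _ (Nat.pos_of_ne_zero hc0)]
  have hZ : Nat.card (Subgroup.zpowers (g ^ c)) = r := by rw [Nat.card_zpowers, hx]
  have hsyl : ∀ H : Subgroup G, Nat.card H = r → ∃ P : Sylow r G, (P : Subgroup G) = H := by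
    intro H hH
    obtain ⟨P, hP⟩ := (IsPGroup.of_card (p := r) (n := 1) (by rw [hH, pow_one])).exists_le_sylow
    refine ⟨P, (Subgroup.eq_of_le_of_card_ge hP ?_).symm⟩
    have h1 := SmallSimple.PrimeLocal.card_of_not_sq_dvd (p := r) (by rw [← hH]; exact Subgroup.card_subgroup_dvd_card H) h2 P
    rw [hH]
    exact h1.le
  obtain ⟨P, hP⟩ := hsyl R hR
  obtain ⟨Q, hQ⟩ := hsyl _ hZ
  obtain ⟨k, hk⟩ := MulAction.exists_smul_eq G P Q
  -- `g` centralizes `Q`
  have h3 : (k⁻¹ * g * k) ∈ Subgroup.centralizer (R : Set G) := by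
    rw [Subgroup.mem_centralizer_iff]
    intro y hy
    have h4 : k * y * k⁻¹ ∈ Subgroup.zpowers (g ^ c) := by
      rw [← hQ, ← hk, Sylow.coe_subgroup_smul, Subgroup.mem_pointwise_smul_iff_inv_smul_mem]
      have : (MulAut.conj k)⁻¹ • (k * y * k⁻¹) = y := by
        rw [← map_inv, MulAut.smul_def, MulAut.conj_apply]
        group
      rw [this, hP]
      exact hy
    obtain ⟨n, hn⟩ := Subgroup.mem_zpowers_iff.1 h4
    have h5 : g * (k * y * k⁻¹) = (k * y * k⁻¹) * g := by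
      rw [← hn, ← zpow_natCast, ← zpow_mul]
      exact (Commute.self_zpow g _).eq
    have h6 : y * (k⁻¹ * g * k) = k⁻¹ * ((k * y * k⁻¹) * g) * k := by group
    have h7 : (k⁻¹ * g * k) * y = k⁻¹ * (g * (k * y * k⁻¹)) * k := by group
    rw [h6, h7, h5]
  rw [hC] at h3
  have h8 : orderOf (k⁻¹ * g * k) ∣ r := by
    have h9 := orderOf_dvd_natCard (⟨_, h3⟩ : R)
    rw [Subgroup.orderOf_mk, hR] at h9
    exact h9
  have h10 : orderOf (k⁻¹ * g * k) = orderOf g := by
    have h11 := orderOf_injective (MulAut.conj k⁻¹).toMonoidHom (MulAut.conj k⁻¹).injective g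
    rw [← h11]
    congr 1
    simp
  rw [h10] at h8
  rcases (Nat.dvd_prime hr).1 h8 with h | h
  · exfalso
    have h12 : r ∣ 1 := by rw [← h]; exact ⟨c, hc⟩
    exact hr.one_lt.ne' (Nat.dvd_one.1 h12)
  · exact h

end Cfsg.Agent.H612.Eight
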