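import Cfsg.Agent.H612.Eight.No39
import Cfsg.Agent.H612.Eight.Kit
import Cfsg.Agent.H732.SelfCentO

/-!
# `PΩ⁺₈(3)`: an element of order divisible by 13 has order 13 (helper612, S4899)
-/

set_option autoImplicit false

open Cfsg

namespace Cfsg.Agent.H612.Eight

open Module Cfsg.Agent.H420.DFourThree Cfsg.Agent.H732.SelfCent
open Cfsg.Agent.LieClassical.OrthCount Cfsg.Agent.LieClassical.OmegaReindex
open Cfsg.Agent.LieClassical.OrthCenter Cfsg.Agent.LieClassical.OrthCore
open Cfsg.Agent.H377 Cfsg.Agent.H150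

theorem card_op83 {F : Type*} [Field F] [Fintype F] (hF : Fintype.card F = 3) :
    Nat.card (POmega F (quadFormPlus 4 F)) = 4952179814400 := by
  have h := Cfsg.Agent.S0293.result hF 4 le_rfl
  norm_num [Finset.prod_range_succ] at h
  omega

theorem ord_thirteen {F : Type*} [Field F] [Fintype F] (hF : Fintype.card F = 3)
    (g : POmega F (quadFormPlus 4 F)) (hg : 13 ∣ orderOf g) : orderOf g = 13 := by
  have hqe : Nat.card F = 3 := by rw [Nat.card_eq_fintype_card, hF]
  have h2 : (2 : F) ≠ 0 := by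
    have h := natCast_ne_zero_of_not_dvd (F := F) (r := 2) Nat.prime_two (by rw [hqe]; norm_num)
    exact_mod_cast h
  have hcard := card_op83 hF
  have hfin : Finite (POmega F (quadFormPlus 4 F)) := Nat.finite_of_card_ne_zero (by rw [hcard]; norm_num)
  have hcard' : Nat.card (POmega F (quadFormPlus 4 F)) =
      2 ^ 12 * 3 ^ 12 * 5 ^ 2 * 7 ^ 1 * 11 ^ 0 * 13 ^ 1 * 17 ^ 0 * 31 ^ 0 := by
    rw [hcard]; norm_num
  have p13 : Nat.Prime 13 := by norm_num
  have h13F : ((13 : ℕ) : F) ≠ 0 := natCast_ne_zero_of_not_dvd p13 (by rw [hqe]; norm_num)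
  have ho : orderOf ((3 : ℕ) : ZMod 13) = 3 := ord_eq (by norm_num) (by decide) (by decide)
  obtain ⟨R, hR, hC⟩ := selfcent_of_orders (G := POmega F (quadFormPlus 4 F)) (r := 13) p13 (by rw [hcard]; norm_num)
    (by rw [hcard]; norm_num) (by
      intro s hs hsd hne
      rw [hcard'] at hsd
      rcases small_primes hs hsd with ⟨rfl, -⟩ | ⟨rfl, -⟩ | ⟨rfl, -⟩ | ⟨rfl, -⟩ | ⟨rfl, h⟩ | ⟨rfl, h⟩ | ⟨rfl, h⟩ | ⟨rfl, h⟩
      · rw [← coe_quadPlus]
        intro g
        rw [mul_comm]
        exact gen_partial_odd h2 (quadPlus 4 F) quadPlus_nondegenerate (by simp) (n := 4) (quadPlus_sing (by omega)) p13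
          (by norm_num) h13F (by norm_num) (Or.inl rfl) (by rw [coe_quadPlus]; exact hasSign_quadFormPlus 4)
          (by rw [hqe]; exact ho) (by decide) (by rw [hqe]) (by rw [hqe]; norm_num) (by rw [hqe]; norm_num) g
      · rw [← coe_quadPlus]
        intro g hg
        obtain ⟨a, u, ha, hu, ha1, hu1, hau, hqa, hqu⟩ := exists_pair p13 Nat.prime_three (by norm_num) (by norm_num) hg
        exact no39 (dat hF) ha hu ha1 hu1 hau hqa hqu
      · intro g
        rw [mul_comm]
        exact nonAdj_five_thirteen hF g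
      · intro g
        rw [mul_comm]
        exact nonAdj_seven_thirteen hF g
      · exact absurd rfl h
      · exact absurd rfl hne
      · exact absurd rfl h
      · exact absurd rfl h)
  exact ord_of_selfcent p13 (by rw [hcard]; norm_num) hR hC g hg

end Cfsg.Agent.H612.Eight
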