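import Cfsg.Agent.H612.Eight.Fam
import Cfsg.Agent.H612.Eight.Ten
import Cfsg.Agent.H612.Eight.Thirteen

/-!
# Eight character degrees in `PΩ⁺_8(3)` (helper612, S4899)
-/

set_option autoImplicit false

open Cfsg

namespace Cfsg.Agent.H612.Eight

open Cfsg.Agent.H674.Dl Cfsg.Agent.H477.HC Cfsg.Agent.H175.Eight

/-- the possible values of the third degree -/
theorem third_cases {e f j : ℕ} (hf : f ∣ 4) (h : e * f = 3 ^ j * 716800) (hsq : e ^ 2 ≤ 4952179814400) :
    e = 716800 ∨ e = 2150400 ∨ e = 358400 ∨ e = 1075200 ∨ e = 179200 ∨ e = 537600 ∨ e = 1612800 := by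
  have he : e ≤ 2225349 := by
    by_contra hc
    have : 2225350 ^ 2 ≤ e ^ 2 := Nat.pow_le_pow_left (by omega) 2
    norm_num at this
    omega
  have hf4 : f ≤ 4 := Nat.le_of_dvd (by norm_num) hf
  have hj : j ≤ 2 := by
    by_contra hc
    have h5 : 3 ^ 3 ≤ 3 ^ j := Nat.pow_le_pow_right (by norm_num) (by omega)
    have h6 : 3 ^ 3 * 716800 ≤ 3 ^ j * 716800 := Nat.mul_le_mul_right _ h5
    have h7 : e * f ≤ 2225349 * 4 := Nat.mul_le_mul he hf4
    omega
  interval_cases j <;> interval_cases f <;> omega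

/-- **`PΩ⁺_8(3)` has at least eight character degrees.** -/
theorem eight_op83 {F : Type*} [Field F] [Fintype F] (hF : Fintype.card F = 3) :
    H664.Eight.Eight (POmega F (quadFormPlus 4 F)) := by
  classical
  have hq : Nat.card F = 3 := by rw [Nat.card_eq_fintype_card, hF]
  have : Fact (Nat.Prime 3) := ⟨Nat.prime_three⟩
  have : Fact (Nat.Prime 13) := ⟨by norm_num⟩
  have : CharP F 3 := charP_of_card Nat.prime_three hF
  have hcard := card_op83 hF
  have hfin : Finite (POmega F (quadFormPlus 4 F)) := Nat.finite_of_card_ne_zero (by rw [hcard]; norm_num)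
  have hcc : cc (Nat.card F) = 4 := by
    unfold cc
    rw [hq, if_pos (by decide)]
  -- the two small degrees
  obtain ⟨b, a, hb, ha, hb', ha'⟩ := rk3_plus F (m := 4) (by norm_num)
  rw [hq] at ha' hb'
  norm_num at ha' hb'
  have ea : a = 819 := by omega
  have eb : b = 300 := by omega
  subst ea eb
  have m819 := mem_of_ch ha
  obtain ⟨φ300, d300⟩ := mem_of_ch hb
  obtain ⟨φ1, d1⟩ := exists_triv (POmega F (quadFormPlus 4 F))
  -- the Steinberg degree
  obtain ⟨φst, dst⟩ := steinberg_mem (F := F) (p := 3) (m := 4) (by norm_num) (k := 12) (N := 9318400)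
    (by rw [hcard]; norm_num) (by norm_num)
  norm_num at dst
  -- the two large ones
  have key : ∀ k D, 3 ≤ k → k ≤ 4 → D ≠ 0 → pp 3 (dg (CForm.plusF F 4) k) = D →
      ∃ e j f, e ∈ charDegrees (POmega F (quadFormPlus 4 F)) ∧ f ∣ 4 ∧ e * f = 3 ^ j * D := by
    intro k D hk hk5 hD0 hD
    obtain ⟨e, he⟩ := plus_dn F 3 (m := 4) (k := k) (by norm_num) (by omega) hk5 (Or.inl hk)
    obtain ⟨hm, j, f, hf, hj⟩ := mem_of_dn he hD hD0
    rw [hcc] at hf
    exact ⟨e, j, f, hm, hf, hj⟩
  have h3 := D_plus F 3 (k := 3) (n := 1) (m := 4) (by norm_num) (by norm_num) (by norm_num)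
  have h4 := D_plus_top F 3 (m := 4) (by norm_num)
  have p2 : pp 3 2 = 2 := pp_self (by norm_num)
  rw [hq] at h3 h4
  rw [p2] at h4
  simp only [AP, Nat.reduceSub, Finset.prod_Ico_eq_prod_range, Finset.prod_range_succ, Finset.prod_range_zero] at h3 h4
  norm_num at h3 h4
  obtain ⟨e3, j3, f3, m3, hf3, he3⟩ := key 3 716800 (by norm_num) (by norm_num) (by norm_num) (by omega)
  obtain ⟨e4, j4, f4, m4, hf4, he4⟩ := key 4 931840 (by norm_num) (by norm_num) (by norm_num) (by omega)
  have m3sq := mem_sq_le m3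
  rw [hcard] at m3sq
  have c3 := third_cases hf3 he3 m3sq
  have d4 : 65 ∣ e4 := by
    have h5 : 65 ∣ e4 * f4 := by rw [he4]; exact Dvd.dvd.mul_left (by norm_num) _
    have h6 : Nat.Coprime 65 f4 := Nat.Coprime.coprime_dvd_right hf4 (by norm_num)
    exact h6.dvd_of_dvd_mul_right h5
  obtain ⟨φ3, d3⟩ := m3
  -- the block
  obtain ⟨NE, X, ε, D, hblk⟩ := exists_blk (G := POmega F (quadFormPlus 4 F)) (p := 13) (by norm_num) hcard (by norm_num)
    (by norm_num) (ord_thirteen hF) (e := 6) (t := 2) (by norm_num) (by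
      intro e' he' h1 h2
      have h3 : e' ≤ 12 := Nat.le_of_dvd (by norm_num) he'
      interval_cases e' <;> revert h1 h2 he' <;> norm_num)
  have hA : Fam (POmega F (quadFormPlus 4 F)) 13 NE ε := ⟨hblk.sign, hblk.congr⟩
  have hAd : ∀ χ ∈ NE, ¬ 13 ∣ charDegree (χ : POmega F (quadFormPlus 4 F) → ℂ) := by
    intro χ hχ h7
    have h1 := hA.congr χ hχ
    rcases hA.sign χ hχ with e | e <;> rw [e] at h1 <;> omega
  have hne3 : ∀ χ ∈ NE, charDegree (χ : POmega F (quadFormPlus 4 F) → ℂ) ≠ e3 := by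
    intro χ hχ hd
    have h1 := hA.congr χ hχ
    rw [hd] at h1
    have h2 : (13 : ℤ) ∣ (e3 : ℤ) - 1 ∨ (13 : ℤ) ∣ (e3 : ℤ) + 1 := by
      rcases hA.sign χ hχ with e | e <;> rw [e] at h1
      · left; exact h1
      · right; exact h1
    rcases c3 with rfl | rfl | rfl | rfl | rfl | rfl | rfl <;> revert h2 <;> norm_num
  have h3X : φ3 ∈ X := by
    by_contra hX
    have h1 := hblk.rest φ3 (fun h => hne3 _ h d3) hX
    rw [d3] at h1
    rcases c3 with rfl | rfl | rfl | rfl | rfl | rfl | rfl <;> revert h1 <;> norm_num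
  have hD : D = e3 := by rw [← d3]; exact (hblk.degX _ h3X).symm
  have hsum : (∑ χ ∈ NE, ε χ * (charDegree (χ : POmega F (quadFormPlus 4 F) → ℂ) : ℤ) = 716800 ∧ e3 = 716800) ∨
      (∑ χ ∈ NE, ε χ * (charDegree (χ : POmega F (quadFormPlus 4 F) → ℂ) : ℤ) = -1612800 ∧ e3 = 1612800) := by
    have h1 := hblk.sum_congr
    have h2 := hblk.sum
    rw [hD] at h2
    generalize ∑ χ ∈ NE, ε χ * (charDegree (χ : POmega F (quadFormPlus 4 F) → ℂ) : ℤ) = S at h1 h2
    push_cast at h1
    rcases c3 with rfl | rfl | rfl | rfl | rfl | rfl | rfl <;> rcases h2 with rfl | rfl <;> revert h1 <;> norm_num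
  have a1 : φ1 ∈ NE := hblk.mem_NE d1 (by norm_num) (by norm_num) (by norm_num)
  have a300 : φ300 ∈ NE := hblk.mem_NE d300 (by norm_num) (by norm_num) (by norm_num)
  have ast : φst ∈ NE := hblk.mem_NE dst (by norm_num) (by norm_num) (by norm_num)
  have s1 := hA.signed (by norm_num) a1 (δ := 1) (Or.inl rfl) d1 (by norm_num)
  have s300 := hA.signed (by norm_num) a300 (δ := 1) (Or.inl rfl) d300 (by norm_num)
  have sst := hA.signed (by norm_num) ast (δ := 1) (Or.inl rfl) dst (by norm_num)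
  have hmst : (531441 : ℕ) ∈ charDegrees (POmega F (quadFormPlus 4 F)) := ⟨φst, dst⟩
  have hm300 : (300 : ℕ) ∈ charDegrees (POmega F (quadFormPlus 4 F)) := ⟨φ300, d300⟩
  have hm1 : (1 : ℕ) ∈ charDegrees (POmega F (quadFormPlus 4 F)) := ⟨φ1, d1⟩
  have hm3 : e3 ∈ charDegrees (POmega F (quadFormPlus 4 F)) := ⟨φ3, d3⟩
  rcases two_new (by norm_num) hA [1, 300, 819, 531441, e3, e4] with ⟨x, hx, y, hy, hxy, hxK, hyK⟩ | ⟨w, hw, hwA⟩
  · simp only [List.mem_cons, List.not_mem_nil, or_false, not_or] at hxK hyK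
    refine H664.Eight.eight_of_list [1, 300, 819, 531441, e3, e4, x, y] ?_ (by simp) ?_
    · simp only [List.nodup_cons, List.mem_cons, List.not_mem_nil, List.nodup_nil, not_or, not_false_eq_true, and_true,
        or_false]
      have hE : e3 = 716800 ∨ e3 = 1612800 := by
        rcases hsum with h | h
        · exact Or.inl h.2
        · exact Or.inr h.2
      refine ⟨⟨by norm_num, by norm_num, by norm_num, by omega, by omega, by omega, by omega⟩,
        ⟨by norm_num, by norm_num, by omega, by omega, by omega, by omega⟩,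
        ⟨by norm_num, by omega, by omega, by omega, by omega⟩,
        ⟨by omega, by omega, by omega, by omega⟩,
        ⟨by omega, by omega, by omega⟩, ⟨by omega, by omega⟩, hxy⟩
    · intro d hd
      simp only [List.mem_cons, List.not_mem_nil, or_false] at hd
      rcases hd with rfl | rfl | rfl | rfl | rfl | rfl | rfl | rfl
      · exact hm1
      · exact hm300
      · exact m819
      · exact hmst
      · exact hm3
      · exact m4
      · exact hx
      · exact hy
  · exfalso
    have n1 := ne_of_deg d1 d300 (by norm_num)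
    have n2 := ne_of_deg d1 dst (by norm_num)
    have n4 := ne_of_deg d300 dst (by norm_num)
    have hT : ({φ1, φ300, φst} : Finset (IrrCharacter (POmega F (quadFormPlus 4 F)))) ⊆ NE := by
      intro χ hχ
      simp only [Finset.mem_insert, Finset.mem_singleton] at hχ
      rcases hχ with rfl | rfl | rfl
      · exact a1
      · exact a300
      · exact ast
    have hTc : ({φ1, φ300, φst} : Finset (IrrCharacter (POmega F (quadFormPlus 4 F)))).card = 3 := by
      rw [Finset.card_insert_of_notMem (by simp [n1, n2]), Finset.card_insert_of_notMem (by simp [n4]),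
        Finset.card_singleton]
    have hTs : ∑ χ ∈ ({φ1, φ300, φst} : Finset (IrrCharacter (POmega F (quadFormPlus 4 F)))),
        ε χ * (charDegree (χ : POmega F (quadFormPlus 4 F) → ℂ) : ℤ) = 531742 := by
      rw [Finset.sum_insert (by simp [n1, n2]), Finset.sum_insert (by simp [n4]),
        Finset.sum_singleton, s1, s300, sst]
      norm_num
    have hBc := Finset.card_sdiff_of_subset hT
    rw [hblk.card_NE, hTc] at hBc
    obtain ⟨x, y, z, hxy, hxz, hyz, hB⟩ := Finset.card_eq_three.1 hBc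
    have hsplit := Finset.sum_sdiff (f := fun χ : IrrCharacter (POmega F (quadFormPlus 4 F)) =>
      ε χ * (charDegree (χ : POmega F (quadFormPlus 4 F) → ℂ) : ℤ)) hT
    rw [hTs, hB, Finset.sum_insert (by simp [hxy, hxz]), Finset.sum_insert (by simp [hyz]),
      Finset.sum_singleton] at hsplit
    have hmem : ∀ χ ∈ ({x, y, z} : Finset (IrrCharacter (POmega F (quadFormPlus 4 F)))), χ ∈ NE := by
      intro χ hχ
      rw [← hB] at hχ
      exact (Finset.mem_sdiff.1 hχ).1
    have hval : ∀ χ ∈ NE, ε χ * (charDegree (χ : POmega F (quadFormPlus 4 F) → ℂ) : ℤ) = 1 ∨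
        ε χ * (charDegree (χ : POmega F (quadFormPlus 4 F) → ℂ) : ℤ) = 300 ∨
        ε χ * (charDegree (χ : POmega F (quadFormPlus 4 F) → ℂ) : ℤ) = 531441 ∨
        ε χ * (charDegree (χ : POmega F (quadFormPlus 4 F) → ℂ) : ℤ) = w := by
      intro χ hχ
      rcases hwA χ hχ with h | h
      · simp only [List.mem_cons, List.not_mem_nil, or_false] at h
        rcases h with h | h | h | h | h | h
        · left
          rw [hA.signed (by norm_num) hχ (δ := 1) (Or.inl rfl) h (by norm_num)]; norm_num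
        · right; left
          rw [hA.signed (by norm_num) hχ (δ := 1) (Or.inl rfl) h (by norm_num)]; norm_num
        · exact absurd (by rw [h]; norm_num) (hAd χ hχ)
        · right; right; left
          rw [hA.signed (by norm_num) hχ (δ := 1) (Or.inl rfl) h (by norm_num)]; norm_num
        · exact absurd h (hne3 χ hχ)
        · exact absurd (by rw [h]; exact (Dvd.dvd.trans (by norm_num) d4)) (hAd χ hχ)
      · exact Or.inr (Or.inr (Or.inr h))
    have hwd : w ∣ 4952179814400 := by
      have h := mem_dvd hw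
      rw [hcard] at h
      have h' : (w.natAbs : ℤ) ∣ ((4952179814400 : ℕ) : ℤ) := by exact_mod_cast h
      rw [Int.natAbs_dvd] at h'
      exact_mod_cast h'
    have hwn : w ≠ -877824 ∧ w ≠ -346683 ∧ w ≠ -346384 ∧ w ≠ 61686 ∧ w ≠ 92379 ∧ w ≠ 184458 ∧ w ≠ 184757 ∧
        w ≠ 185056 ∧ w ≠ -3207424 ∧ w ≠ -2676283 ∧ w ≠ -2675984 ∧ w ≠ -2145142 ∧ w ≠ -2144843 ∧ w ≠ -2144544 ∧
        w ≠ -1072421 := by
      refine ⟨?_, ?_, ?_, ?_, ?_, ?_, ?_, ?_, ?_, ?_, ?_, ?_, ?_, ?_, ?_⟩ <;> (rintro rfl; revert hwd; norm_num)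
    have vx := hval x (hmem x (by simp))
    have vy := hval y (hmem y (by simp))
    have vz := hval z (hmem z (by simp))
    obtain ⟨w1, w2, w3, w4, w5, w6, w7, w8, w9, w10, w11, w12, w13, w14, w15⟩ := hwn
    clear hwA hwd hval hmem hB hBc hTs hTc hT
    generalize ε x * (charDegree (x : POmega F (quadFormPlus 4 F) → ℂ) : ℤ) = sx at vx hsplit
    generalize ε y * (charDegree (y : POmega F (quadFormPlus 4 F) → ℂ) : ℤ) = sy at vy hsplit
    generalize ε z * (charDegree (z : POmega F (quadFormPlus 4 F) → ℂ) : ℤ) = sz at vz hsplit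
    rcases hsum with ⟨hsum, -⟩ | ⟨hsum, -⟩ <;> rw [hsum] at hsplit <;> rcases vx with vx | vx | vx | vx <;>
      rcases vy with vy | vy | vy | vy <;> rcases vz with vz | vz | vz | vz <;> omega

end Cfsg.Agent.H612.Eight
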