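import Cfsg.Agent.H612.Eight.Fam
import Cfsg.Agent.H612.Eight.Ten
import Cfsg.Agent.H732.SelfCentO

/-!
# Eight character degrees in `Ω⁺_8(2)` (helper612, S4899)
-/

set_option autoImplicit false

open Cfsg

namespace Cfsg.Agent.H612.Eight

open Cfsg.Agent.H674.Dl Cfsg.Agent.H477.HC Cfsg.Agent.H175.Eight

theorem card_op82 {F : Type*} [Field F] [Fintype F] (hF : Fintype.card F = 2) :
    Nat.card (POmega F (quadFormPlus 4 F)) = 174182400 := by
  have hord := Cfsg.Agent.S0293.result (F := F) hF 4 (by norm_num)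
  rw [show Nat.gcd 4 (2 ^ 4 - 1) = 1 by norm_num] at hord
  simp only [Nat.reduceSub, Finset.prod_range_succ, Finset.prod_range_zero] at hord
  norm_num at hord
  omega

/-- **`Ω⁺_8(2)` has at least eight character degrees.** -/
theorem eight_op82 {F : Type*} [Field F] [Fintype F] (hF : Fintype.card F = 2) :
    H664.Eight.Eight (POmega F (quadFormPlus 4 F)) := by
  classical
  have hq : Nat.card F = 2 := by rw [Nat.card_eq_fintype_card, hF]
  have : Fact (Nat.Prime 2) := ⟨Nat.prime_two⟩
  have : Fact (Nat.Prime 7) := ⟨by norm_num⟩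
  have : CharP F 2 := charP_of_card Nat.prime_two hF
  have hcard := card_op82 hF
  have hfin : Finite (POmega F (quadFormPlus 4 F)) := Nat.finite_of_card_ne_zero (by rw [hcard]; norm_num)
  have hcc : cc (Nat.card F) = 1 := by
    unfold cc
    rw [hq, if_neg (by decide)]
  -- the two small degrees
  obtain ⟨b, a, hb, ha, hb', ha'⟩ := rk3_plus F (m := 4) (by norm_num)
  rw [hq] at ha' hb'
  norm_num at ha' hb'
  have ea : a = 84 := by omega
  have eb : b = 50 := by omega
  subst ea eb
  have m84 := mem_of_ch ha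
  obtain ⟨φ50, d50⟩ := mem_of_ch hb
  obtain ⟨φ1, d1⟩ := exists_triv (POmega F (quadFormPlus 4 F))
  -- the Steinberg degree
  obtain ⟨φst, dst⟩ := steinberg_mem (F := F) (p := 2) (m := 4) (by norm_num) (k := 12) (N := 42525)
    (by rw [hcard]; norm_num) (by norm_num)
  norm_num at dst
  -- the two large ones
  have key : ∀ k D, 3 ≤ k → k ≤ 4 → D ≠ 0 → pp 2 (dg (CForm.plusF F 4) k) = D →
      ∃ j, 2 ^ j * D ∈ charDegrees (POmega F (quadFormPlus 4 F)) := by
    intro k D hk hk5 hD0 hD
    obtain ⟨e, he⟩ := plus_dn F 2 (m := 4) (k := k) (by norm_num) (by omega) hk5 (Or.inl hk)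
    obtain ⟨hm, j, f, hf, hj⟩ := mem_of_dn he hD hD0
    rw [hcc, Nat.dvd_one] at hf
    rw [hf, mul_one] at hj
    exact ⟨j, hj ▸ hm⟩
  have h3 := D_plus F 2 (k := 3) (n := 1) (m := 4) (by norm_num) (by norm_num) (by norm_num)
  have h4 := D_plus_top F 2 (m := 4) (by norm_num)
  have p2 : pp 2 2 = 1 := pp_pow Nat.prime_two 1
  rw [hq] at h3 h4
  rw [p2] at h4
  simp only [AP, Nat.reduceSub, Finset.prod_Ico_eq_prod_range, Finset.prod_range_succ, Finset.prod_range_zero] at h3 h4
  norm_num at h3 h4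
  obtain ⟨j3, m3⟩ := key 3 6075 (by norm_num) (by norm_num) (by norm_num) (by omega)
  obtain ⟨j4, m4⟩ := key 4 2835 (by norm_num) (by norm_num) (by norm_num) (by omega)
  have m3sq := mem_sq_le m3
  obtain ⟨φ3, d3⟩ := m3
  -- the block
  obtain ⟨R, hR, hC⟩ := H732.SelfCent.omega8plus_selfcent hF
  obtain ⟨NE, X, ε₀, D, hblk⟩ := exists_blk (G := POmega F (quadFormPlus 4 F)) (p := 7) (by norm_num) hcard (by norm_num)
    (by norm_num) (ord_of_selfcent (by norm_num) (by rw [hcard]; norm_num) hR hC) (e := 6) (t := 1) (by norm_num) (by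
      intro e' he' h1 h2
      have h3 : e' ≤ 6 := Nat.le_of_dvd (by norm_num) he'
      interval_cases e' <;> revert h1 h2 he' <;> norm_num)
  obtain ⟨A, ε, hA, hAc, hAs, hAm⟩ := full (by norm_num) hblk
  have hAd : ∀ χ ∈ A, ¬ 7 ∣ charDegree (χ : POmega F (quadFormPlus 4 F) → ℂ) := by
    intro χ hχ h7
    have h1 := hA.congr χ hχ
    rcases hA.sign χ hχ with e | e <;> rw [e] at h1 <;> omega
  -- `j3 = 0`
  have e3 : 2 ^ j3 * 6075 = 6075 := by
    rw [hcard] at m3sq
    have hj : j3 ≤ 1 := by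
      by_contra hc
      have h5 : 2 ^ 2 ≤ 2 ^ j3 := Nat.pow_le_pow_right (by norm_num) (by omega)
      have h6 : (2 ^ 2 * 6075) ^ 2 ≤ (2 ^ j3 * 6075) ^ 2 := Nat.pow_le_pow_left (Nat.mul_le_mul_right _ h5) 2
      norm_num at h6 m3sq
      omega
    rcases (show j3 = 0 ∨ j3 = 1 by omega) with rfl | rfl
    · norm_num
    · exfalso
      norm_num at d3
      have h5 : φ3 ∈ A := hAm φ3 (by rw [d3]; norm_num)
      have h6 := hA.congr _ h5
      rw [d3] at h6
      rcases hA.sign _ h5 with e | e <;> rw [e] at h6 <;> omega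
  rw [e3] at d3
  have a1 : φ1 ∈ A := hAm _ (by rw [d1]; norm_num)
  have a50 : φ50 ∈ A := hAm _ (by rw [d50]; norm_num)
  have ast : φst ∈ A := hAm _ (by rw [dst]; norm_num)
  have a3 : φ3 ∈ A := hAm _ (by rw [d3]; norm_num)
  have s1 := hA.signed (by norm_num) a1 (δ := 1) (Or.inl rfl) d1 (by norm_num)
  have s50 := hA.signed (by norm_num) a50 (δ := 1) (Or.inl rfl) d50 (by norm_num)
  have sst := hA.signed (by norm_num) ast (δ := 1) (Or.inl rfl) dst (by norm_num)
  have s3 := hA.signed (by norm_num) a3 (δ := -1) (Or.inr rfl) d3 (by norm_num)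
  have hm3 : (6075 : ℕ) ∈ charDegrees (POmega F (quadFormPlus 4 F)) := ⟨φ3, d3⟩
  have hmst : (4096 : ℕ) ∈ charDegrees (POmega F (quadFormPlus 4 F)) := ⟨φst, dst⟩
  have hm50 : (50 : ℕ) ∈ charDegrees (POmega F (quadFormPlus 4 F)) := ⟨φ50, d50⟩
  have hm1 : (1 : ℕ) ∈ charDegrees (POmega F (quadFormPlus 4 F)) := ⟨φ1, d1⟩
  have b4 := Nat.one_le_two_pow (n := j4)
  have c34 := not_dvd_of_odd_ne (j := j4) (a := 6075) (b := 2835) (by norm_num) (by norm_num) (by norm_num) 0
  have c4 := not_dvd_of_odd_ne (j := j4) (a := 1) (b := 2835) (by norm_num) (by norm_num) (by norm_num) 12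
  norm_num at c34 c4
  rcases two_new (by norm_num) hA [1, 50, 84, 4096, 6075, 2 ^ j4 * 2835] with
    ⟨x, hx, y, hy, hxy, hxK, hyK⟩ | ⟨w, hw, hwA⟩
  · simp only [List.mem_cons, List.not_mem_nil, or_false, not_or] at hxK hyK
    refine H664.Eight.eight_of_list [1, 50, 84, 4096, 6075, 2 ^ j4 * 2835, x, y] ?_ (by simp) ?_
    · simp only [List.nodup_cons, List.mem_cons, List.not_mem_nil, List.nodup_nil, not_or, not_false_eq_true, and_true,
        or_false]
      refine ⟨⟨by norm_num, by norm_num, by norm_num, by norm_num, by omega, by omega, by omega⟩,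
        ⟨by norm_num, by norm_num, by norm_num, by omega, by omega, by omega⟩,
        ⟨by norm_num, by norm_num, by omega, by omega, by omega⟩,
        ⟨by norm_num, by omega, by omega, by omega⟩,
        ⟨by omega, by omega, by omega⟩, ⟨by omega, by omega⟩, hxy⟩
    · intro d hd
      simp only [List.mem_cons, List.not_mem_nil, or_false] at hd
      rcases hd with rfl | rfl | rfl | rfl | rfl | rfl | rfl | rfl
      · exact hm1
      · exact hm50
      · exact m84
      · exact hmst
      · exact hm3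
      · exact m4
      · exact hx
      · exact hy
  · exfalso
    have n1 := ne_of_deg d1 d50 (by norm_num)
    have n2 := ne_of_deg d1 dst (by norm_num)
    have n3 := ne_of_deg d1 d3 (by norm_num)
    have n4 := ne_of_deg d50 dst (by norm_num)
    have n5 := ne_of_deg d50 d3 (by norm_num)
    have n6 := ne_of_deg dst d3 (by norm_num)
    have hT : ({φ1, φ50, φst, φ3} : Finset (IrrCharacter (POmega F (quadFormPlus 4 F)))) ⊆ A := by
      intro χ hχ
      simp only [Finset.mem_insert, Finset.mem_singleton] at hχ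
      rcases hχ with rfl | rfl | rfl | rfl
      · exact a1
      · exact a50
      · exact ast
      · exact a3
    have hTc : ({φ1, φ50, φst, φ3} : Finset (IrrCharacter (POmega F (quadFormPlus 4 F)))).card = 4 := by
      rw [Finset.card_insert_of_notMem (by simp [n1, n2, n3]), Finset.card_insert_of_notMem (by simp [n4, n5]),
        Finset.card_insert_of_notMem (by simp [n6]), Finset.card_singleton]
    have hTs : ∑ χ ∈ ({φ1, φ50, φst, φ3} : Finset (IrrCharacter (POmega F (quadFormPlus 4 F)))),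
        ε χ * (charDegree (χ : POmega F (quadFormPlus 4 F) → ℂ) : ℤ) = -1928 := by
      rw [Finset.sum_insert (by simp [n1, n2, n3]), Finset.sum_insert (by simp [n4, n5]),
        Finset.sum_insert (by simp [n6]), Finset.sum_singleton, s1, s50, sst, s3]
      norm_num
    have hBc := Finset.card_sdiff_of_subset hT
    rw [hAc, hTc] at hBc
    obtain ⟨x, y, z, hxy, hxz, hyz, hB⟩ := Finset.card_eq_three.1 hBc
    have hsplit := Finset.sum_sdiff (f := fun χ : IrrCharacter (POmega F (quadFormPlus 4 F)) =>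
      ε χ * (charDegree (χ : POmega F (quadFormPlus 4 F) → ℂ) : ℤ)) hT
    rw [hAs, hTs, hB, Finset.sum_insert (by simp [hxy, hxz]), Finset.sum_insert (by simp [hyz]),
      Finset.sum_singleton] at hsplit
    have hmem : ∀ χ ∈ ({x, y, z} : Finset (IrrCharacter (POmega F (quadFormPlus 4 F)))), χ ∈ A := by
      intro χ hχ
      rw [← hB] at hχ
      exact (Finset.mem_sdiff.1 hχ).1
    have hval : ∀ χ ∈ A, ε χ * (charDegree (χ : POmega F (quadFormPlus 4 F) → ℂ) : ℤ) = 1 ∨
        ε χ * (charDegree (χ : POmega F (quadFormPlus 4 F) → ℂ) : ℤ) = 50 ∨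
        ε χ * (charDegree (χ : POmega F (quadFormPlus 4 F) → ℂ) : ℤ) = 4096 ∨
        ε χ * (charDegree (χ : POmega F (quadFormPlus 4 F) → ℂ) : ℤ) = -6075 ∨
        ε χ * (charDegree (χ : POmega F (quadFormPlus 4 F) → ℂ) : ℤ) = w := by
      intro χ hχ
      rcases hwA χ hχ with h | h
      · simp only [List.mem_cons, List.not_mem_nil, or_false] at h
        rcases h with h | h | h | h | h | h
        · left
          rw [hA.signed (by norm_num) hχ (δ := 1) (Or.inl rfl) h (by norm_num)]; norm_num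
        · right; left
          rw [hA.signed (by norm_num) hχ (δ := 1) (Or.inl rfl) h (by norm_num)]; norm_num
        · exact absurd (by rw [h]; norm_num) (hAd χ hχ)
        · right; right; left
          rw [hA.signed (by norm_num) hχ (δ := 1) (Or.inl rfl) h (by norm_num)]; norm_num
        · right; right; right; left
          rw [hA.signed (by norm_num) hχ (δ := -1) (Or.inr rfl) h (by norm_num)]; norm_num
        · exact absurd (by rw [h]; exact Dvd.dvd.mul_left (by norm_num) _) (hAd χ hχ)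
      · exact Or.inr (Or.inr (Or.inr (Or.inr h)))
    have hwd : w ∣ 174182400 := by
      have h := mem_dvd hw
      rw [hcard] at h
      have h' : (w.natAbs : ℤ) ∣ ((174182400 : ℕ) : ℤ) := by exact_mod_cast h
      rw [Int.natAbs_dvd] at h'
      exact_mod_cast h'
    have hwn : w ≠ -6264 ∧ w ≠ -2218 ∧ w ≠ -2169 ∧ w ≠ -1084 ∧ w ≠ 939 ∧ w ≠ 1828 ∧ w ≠ 1877 ∧ w ≠ 1926 ∧
        w ≠ 3907 ∧ w ≠ 7953 ∧ w ≠ 8002 ∧ w ≠ 14078 := by
      refine ⟨?_, ?_, ?_, ?_, ?_, ?_, ?_, ?_, ?_, ?_, ?_, ?_⟩ <;> (rintro rfl; revert hwd; norm_num)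
    have vx := hval x (hmem x (by simp))
    have vy := hval y (hmem y (by simp))
    have vz := hval z (hmem z (by simp))
    obtain ⟨w1, w2, w3, w4, w5, w6, w7, w8, w9, w10, w11, w12⟩ := hwn
    clear hwA hwd hval hmem hB hBc hTs hTc hT
    generalize ε x * (charDegree (x : POmega F (quadFormPlus 4 F) → ℂ) : ℤ) = sx at vx hsplit
    generalize ε y * (charDegree (y : POmega F (quadFormPlus 4 F) → ℂ) : ℤ) = sy at vy hsplit
    generalize ε z * (charDegree (z : POmega F (quadFormPlus 4 F) → ℂ) : ℤ) = sz at vz hsplit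
    rcases vx with vx | vx | vx | vx | vx <;> rcases vy with vy | vy | vy | vy | vy <;>
      rcases vz with vz | vz | vz | vz | vz <;> omega

end Cfsg.Agent.H612.Eight
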