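import Cfsg.Agent.H612.Eight.Kit
import Cfsg.Agent.H175.Eight.Blk
import Cfsg.Agent.SmallSimple.DegreeData
import Cfsg.Agent.Blocks.Knorr

/-!
# At most one unknown degree in a family of signed characters (helper612, S4899)

* `two_new` : two new degrees, or all the unknown degrees of the family are equal;
* `full` : the family of a block with one exceptional character.
-/

set_option autoImplicit false

open Cfsg

namespace Cfsg.Agent.H612.Eight

open Cfsg.Agent.H175.Eight Cfsg.Agent.Characters.Core Cfsg.Agent.Blocks.Basic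

universe u

variable {G : Type u} [Group G] [Finite G]

theorem deg_sq_le (χ : IrrCharacter G) : charDegree (χ : G → ℂ) ^ 2 ≤ Nat.card G := by
  classical
  have := finite_irr (G := G)
  have := Fintype.ofFinite (IrrCharacter G)
  have h := SmallSimple.DegreeData.sum_sq (G := G)
  have h' : ∑ χ : IrrCharacter G, charDegree (χ : G → ℂ) ^ 2 = Nat.card G := by exact_mod_cast h
  rw [← h']
  exact Finset.single_le_sum (f := fun χ : IrrCharacter G => charDegree (χ : G → ℂ) ^ 2)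
    (fun _ _ => Nat.zero_le _) (Finset.mem_univ χ)

theorem mem_sq_le {d : ℕ} (h : d ∈ charDegrees G) : d ^ 2 ≤ Nat.card G := by
  obtain ⟨χ, rfl⟩ := h
  exact deg_sq_le χ

theorem mem_dvd {d : ℕ} (h : d ∈ charDegrees G) : d ∣ Nat.card G := by
  obtain ⟨χ, rfl⟩ := h
  exact Blocks.Knorr.charDegree_dvd χ.2

theorem ne_of_deg {φ ψ : IrrCharacter G} {a b : ℕ} (h1 : charDegree (φ : G → ℂ) = a)
    (h2 : charDegree (ψ : G → ℂ) = b) (hab : a ≠ b) : φ ≠ ψ := by
  rintro rfl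
  exact hab (h1.symm.trans h2)

theorem exists_triv (G : Type u) [Group G] [Finite G] : ∃ φ : IrrCharacter G, charDegree (φ : G → ℂ) = 1 := by
  obtain ⟨φ, hφ⟩ := H664.Eight.one_mem (S := G)
  exact ⟨φ, hφ⟩

/-- signed families -/
structure Fam (G : Type u) [Group G] [Finite G] (p : ℕ) (A : Finset (IrrCharacter G)) (ε : IrrCharacter G → ℤ) :
    Prop where
  sign : ∀ χ ∈ A, ε χ = 1 ∨ ε χ = -1
  congr : ∀ χ ∈ A, (p : ℤ) ∣ (charDegree (χ : G → ℂ) : ℤ) - ε χ

theorem Fam.eq {p : ℕ} (hp : 2 < p) {A : Finset (IrrCharacter G)} {ε : IrrCharacter G → ℤ} (h : Fam G p A ε)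
    {χ ψ : IrrCharacter G} (hχ : χ ∈ A) (hψ : ψ ∈ A) (hd : charDegree (χ : G → ℂ) = charDegree (ψ : G → ℂ)) :
    ε χ = ε ψ := by
  have h1 := h.congr χ hχ
  have h2 := h.congr ψ hψ
  rw [hd] at h1
  have h3 := dvd_sub h1 h2
  rw [show (charDegree (ψ : G → ℂ) : ℤ) - ε χ - ((charDegree (ψ : G → ℂ) : ℤ) - ε ψ) = ε ψ - ε χ by ring] at h3
  have key : ¬ (p : ℤ) ∣ 2 := by
    intro h4
    have h5 : p ∣ 2 := by exact_mod_cast h4
    have := Nat.le_of_dvd (by norm_num) h5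
    omega
  rcases h.sign χ hχ with e1 | e1 <;> rcases h.sign ψ hψ with e2 | e2 <;> rw [e1, e2] at h3 ⊢
  · exact absurd ((dvd_neg).1 (by norm_num at h3; norm_num; exact h3)) key
  · exact absurd (by norm_num at h3; exact h3) key

theorem Fam.signed {p : ℕ} (hp : 2 < p) {A : Finset (IrrCharacter G)} {ε : IrrCharacter G → ℤ} (h : Fam G p A ε)
    {χ : IrrCharacter G} (hχ : χ ∈ A) {d : ℕ} {δ : ℤ} (hδ : δ = 1 ∨ δ = -1) (hd : charDegree (χ : G → ℂ) = d)
    (h1 : (p : ℤ) ∣ d - δ) : ε χ * (charDegree (χ : G → ℂ) : ℤ) = δ * d := by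
  have h2 := h.congr χ hχ
  rw [hd] at h2 ⊢
  congr 1
  have h3 := dvd_sub h2 h1
  rw [show (d : ℤ) - ε χ - ((d : ℤ) - δ) = δ - ε χ by ring] at h3
  have key : ¬ (p : ℤ) ∣ 2 := by
    intro h4
    have h5 : p ∣ 2 := by exact_mod_cast h4
    have := Nat.le_of_dvd (by norm_num) h5
    omega
  rcases h.sign χ hχ with e1 | e1 <;> rcases hδ with e2 | e2 <;> rw [e1, e2] at h3 ⊢
  · exact absurd ((dvd_neg).1 (by norm_num at h3; norm_num; exact h3)) key
  · exact absurd (by norm_num at h3; exact h3) key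

/-- **Two new degrees, or all the unknown degrees of the family are equal.** -/
theorem two_new {p : ℕ} (hp : 2 < p) {A : Finset (IrrCharacter G)} {ε : IrrCharacter G → ℤ} (h : Fam G p A ε)
    (K : List ℕ) :
    (∃ a ∈ charDegrees G, ∃ b ∈ charDegrees G, a ≠ b ∧ a ∉ K ∧ b ∉ K) ∨
    (∃ w : ℤ, w.natAbs ∈ charDegrees G ∧
      ∀ χ ∈ A, charDegree (χ : G → ℂ) ∈ K ∨ ε χ * (charDegree (χ : G → ℂ) : ℤ) = w) := by
  by_cases h1 : ∃ χ0 ∈ A, charDegree ((χ0 : IrrCharacter G) : G → ℂ) ∉ K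
  · obtain ⟨χ0, hA, hK⟩ := h1
    by_cases h2 : ∃ χ1 ∈ A, charDegree ((χ1 : IrrCharacter G) : G → ℂ) ∉ K ∧
        charDegree ((χ1 : IrrCharacter G) : G → ℂ) ≠ charDegree (χ0 : G → ℂ)
    · obtain ⟨χ1, hA1, hK1, hne⟩ := h2
      exact Or.inl ⟨_, ⟨χ1, rfl⟩, _, ⟨χ0, rfl⟩, hne, hK1, hK⟩
    · push Not at h2
      refine Or.inr ⟨ε χ0 * (charDegree (χ0 : G → ℂ) : ℤ), ?_, fun χ hχ => ?_⟩
      · refine ⟨χ0, ?_⟩
        rcases h.sign χ0 hA with e | e <;> rw [e] <;> simp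
      · by_cases h3 : charDegree (χ : G → ℂ) ∈ K
        · exact Or.inl h3
        · have h4 := h2 χ hχ h3
          rw [h.eq hp hχ hA h4, h4]
          exact Or.inr rfl
  · push Not at h1
    refine Or.inr ⟨1, ?_, fun χ hχ => Or.inl (h1 χ hχ)⟩
    exact H664.Eight.one_mem

/-- the family of a block with one exceptional character -/
theorem full {p e : ℕ} (he : e + 1 = p) {NE X : Finset (IrrCharacter G)} {ε : IrrCharacter G → ℤ} {D : ℕ}
    (h : Blk G p e 1 NE X ε D) : ∃ (A : Finset (IrrCharacter G)) (ε' : IrrCharacter G → ℤ), Fam G p A ε' ∧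
      A.card = p ∧ ∑ χ ∈ A, ε' χ * (charDegree (χ : G → ℂ) : ℤ) = 0 ∧
      ∀ χ : IrrCharacter G, ¬ p ∣ charDegree (χ : G → ℂ) → χ ∈ A := by
  classical
  obtain ⟨ξ, hξ⟩ := Finset.card_eq_one.1 h.card_X
  have hξN : ξ ∉ NE := by
    have := h.disj
    rw [hξ] at this
    simpa using this
  have hD := h.degX ξ (by rw [hξ]; exact Finset.mem_singleton_self ξ)
  obtain ⟨δ, hδ, hsum⟩ : ∃ δ : ℤ, (δ = 1 ∨ δ = -1) ∧ ∑ χ ∈ NE, ε χ * (charDegree (χ : G → ℂ) : ℤ) = -(δ * D) := by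
    rcases h.sum with h1 | h1
    · exact ⟨-1, Or.inr rfl, by rw [h1]; ring⟩
    · exact ⟨1, Or.inl rfl, by rw [h1]; ring⟩
  have hD' : (p : ℤ) ∣ (D : ℤ) - δ := by
    have h2 := h.sum_congr
    rw [hsum] at h2
    have h3 : (p : ℤ) = e + 1 := by rw [← he]; push_cast; ring
    rcases hδ with rfl | rfl
    · have h4 : (D : ℤ) - 1 = -(-(1 * (D : ℤ)) - e) - p := by rw [h3]; ring
      rw [h4]
      exact dvd_sub ((dvd_neg).2 h2) (dvd_refl _)
    · have h4 : (D : ℤ) - -1 = (-(-1 * (D : ℤ)) - e) + p := by rw [h3]; ring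
      rw [h4]
      exact dvd_add h2 (dvd_refl _)
  have hne : ∀ χ ∈ NE, χ ≠ ξ := fun χ hχ e => hξN (e ▸ hχ)
  refine ⟨insert ξ NE, Function.update ε ξ δ, ⟨?_, ?_⟩, ?_, ?_, ?_⟩
  · intro χ hχ
    rcases Finset.mem_insert.1 hχ with rfl | hχ
    · rw [Function.update_self]; exact hδ
    · rw [Function.update_of_ne (hne χ hχ)]; exact h.sign χ hχ
  · intro χ hχ
    rcases Finset.mem_insert.1 hχ with rfl | hχ
    · rw [Function.update_self, hD]; exact hD'
    · rw [Function.update_of_ne (hne χ hχ)]; exact h.congr χ hχ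
  · rw [Finset.card_insert_of_notMem hξN, h.card_NE, he]
  · rw [Finset.sum_insert hξN, Function.update_self, hD]
    have h5 : ∑ χ ∈ NE, Function.update ε ξ δ χ * (charDegree (χ : G → ℂ) : ℤ)
        = ∑ χ ∈ NE, ε χ * (charDegree (χ : G → ℂ) : ℤ) :=
      Finset.sum_congr rfl fun χ hχ => by rw [Function.update_of_ne (hne χ hχ)]
    rw [h5, hsum]
    ring
  · intro χ hχ
    by_contra hn
    rw [Finset.mem_insert, not_or] at hn
    exact hχ (h.rest χ hn.2 (by rw [hξ, Finset.mem_singleton]; exact hn.1))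

end Cfsg.Agent.H612.Eight
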