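import Cfsg.Agent.H420.DFourThree
import Cfsg.Agent.H150.SpForm
import Cfsg.Agent.H150.FarOrthThree

/-!
# `PΩ⁺₈(3)`: the elements of order 13 are self-centralizing (helper612, S4899)

* `no39` : no commuting isometries of orders 13 and 3;
* `ord_thirteen` : an element of order divisible by 13 has order 13.
-/

set_option autoImplicit false

open Cfsg

namespace Cfsg.Agent.H612.Eight

open Module QuadraticMap Cfsg.Agent.H420.Fix Cfsg.Agent.H420.OEightThree

section Quad

variable {F : Type*} [Field F] {V : Type*} [AddCommGroup V] [Module F V] [Finite V] {Q : QuadraticForm F V}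

/-- **No commuting isometries of orders 13 and 3.** -/
theorem no39 (h : Dat Q) {a u : Module.End F V} (ha : a ^ 13 = 1) (hu : u ^ 3 = 1) (ha1 : a ≠ 1) (hu1 : u ≠ 1)
    (hab : a * u = u * a) (hqa : ∀ v, Q (a v) = Q v) (hqu : ∀ v, Q (u v) = Q v) : False := by
  have h1 := h.thirteen ha ha1 hqa
  have : Fact (Nat.Prime 3) := ⟨by norm_num⟩
  have h13 : ((13 : ℕ) : F) ≠ 0 := by
    have : ((13 : ℕ) : F) = 1 := by
      push_cast
      linear_combination 4 * h.three
    rw [this]; exact one_ne_zero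
  -- the norms on `fx a`
  have z1 := h.sing ha hqa
  have z2 := card_inter_le {v : V | Q v = 0} (fx a)
  rw [h.card_sub, h1] at z2
  have z3 : Nat.card ({v : V | Q v = 0} ∩ fx a : Set V) = 5 := by
    generalize Nat.card ({v : V | Q v = 0} ∩ fx a : Set V) = s at z1 z2
    norm_num at z2
    interval_cases s <;> first | rfl | (exfalso; revert z1; decide)
  have o1 : 2160 ≡ Nat.card ({v : V | Q v = 1} ∩ fx a : Set V) [MOD 13] := by
    have h1 := card_modEq (r := 13) (n := 1) (by rwa [pow_one]) {v : V | Q v = 1} (fun v hv => by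
      change Q (a v) = 1
      rw [hqa]; exact hv)
    rwa [h.ones] at h1
  have o2 := card_inter_le {v : V | Q v = 1} (fx a)
  rw [h.card_sub, h1] at o2
  have o3 : Nat.card ({v : V | Q v = 1} ∩ fx a : Set V) = 2 := by
    generalize Nat.card ({v : V | Q v = 1} ∩ fx a : Set V) = s at o1 o2
    norm_num at o2
    interval_cases s <;> first | rfl | (exfalso; revert o1; decide)
  have hinv : ∀ c : F, ∀ v ∈ ({v : V | Q v = c} ∩ fx a : Set V), u v ∈ ({v : V | Q v = c} ∩ fx a : Set V) := by
    rintro c v ⟨h4, h5⟩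
    exact ⟨(hqu v).trans h4, comm_mem_fx hab.symm h5⟩
  -- fixed vectors of `u`
  have p1 : 2 ≤ Nat.card ({v : V | Q v = 0} ∩ fx a ∩ fx u : Set V) := by
    have q1 := card_modEq (r := 3) (n := 1) (by rwa [pow_one]) ({v : V | Q v = 0} ∩ fx a) (hinv 0)
    rw [z3] at q1
    by_contra hc
    generalize Nat.card ({v : V | Q v = 0} ∩ fx a ∩ fx u : Set V) = s at q1 hc
    have : s < 2 := by omega
    interval_cases s <;> (revert q1; decide)
  have p2 : 2 ≤ Nat.card ({v : V | Q v = 1} ∩ fx a ∩ fx u : Set V) := by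
    have q1 := card_modEq (r := 3) (n := 1) (by rwa [pow_one]) ({v : V | Q v = 1} ∩ fx a) (hinv 1)
    rw [o3] at q1
    by_contra hc
    generalize Nat.card ({v : V | Q v = 1} ∩ fx a ∩ fx u : Set V) = s at q1 hc
    have : s < 2 := by omega
    interval_cases s <;> (revert q1; decide)
  have q1 : fx a ≤ fx u := by
    have q2 : finrank F ↥(fx a ⊓ fx u) ≤ 2 := by
      rw [← h1]; exact Submodule.finrank_mono inf_le_left
    have q3 : 4 ≤ Nat.card ↥(fx a ⊓ fx u) := by
      have q4 : ({v : V | Q v = 0} ∩ fx a ∩ fx u : Set V) ∪ ({v : V | Q v = 1} ∩ fx a ∩ fx u : Set V) ⊆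
          ((fx a ⊓ fx u : Submodule F V) : Set V) := by
        rintro v (⟨⟨_, v2⟩, v3⟩ | ⟨⟨_, v2⟩, v3⟩)
        · exact ⟨v2, v3⟩
        · exact ⟨v2, v3⟩
      have q5 : Disjoint ({v : V | Q v = 0} ∩ fx a ∩ fx u : Set V) ({v : V | Q v = 1} ∩ fx a ∩ fx u : Set V) := by
        rw [Set.disjoint_left]
        rintro v ⟨⟨v1, _⟩, _⟩ ⟨⟨v2, _⟩, _⟩
        have v1' : Q v = 0 := v1
        have v2' : Q v = 1 := v2
        rw [v1'] at v2'
        exact zero_ne_one v2'
      have q6 := Set.ncard_le_ncard q4 (Set.toFinite _)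
      rw [Set.ncard_union_eq q5 (Set.toFinite _) (Set.toFinite _), ← Nat.card_coe_set_eq, ← Nat.card_coe_set_eq,
        ← Nat.card_coe_set_eq] at q6
      exact le_trans (by omega) q6
    rw [h.card_sub] at q3
    have q7 : finrank F ↥(fx a ⊓ fx u) = 2 := by
      generalize finrank F ↥(fx a ⊓ fx u) = i at q2 q3
      interval_cases i <;> omega
    have q8 : fx a ⊓ fx u = fx a := Submodule.eq_of_le_of_finrank_eq inf_le_left (by rw [q7, h1])
    exact inf_eq_left.1 q8
  -- the fixed space of `u`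
  have r1 : finrank F (fx u) = 2 ∨ finrank F (fx u) = 5 := by
    have r2 := h.mod ha (fx u) (comm_inf hab)
    rw [inf_eq_right.2 q1, h1] at r2
    have r3 := h.lt_eight hu1
    have r4 : 2 ≤ finrank F (fx u) := by rw [← h1]; exact Submodule.finrank_mono q1
    generalize finrank F (fx u) = i at r2 r3 r4
    interval_cases i <;> first | (left; rfl) | (right; rfl) | (exfalso; revert r2; decide)
  -- `(u - 1) ^ 3 = 0`
  have h33 : ∀ x : Module.End F V, (3 : ℕ) • x = 0 := by
    intro x
    rw [← Nat.cast_smul_eq_nsmul F]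
    push_cast
    rw [h.three, zero_smul]
  have r5 : (u - 1) * ((u - 1) * (u - 1)) = 0 := by
    have r6 : (u - 1) * ((u - 1) * (u - 1)) = u ^ 3 - 1 + (3 : ℕ) • (u - u ^ 2) := by noncomm_ring
    rw [r6, hu, h33, sub_self, add_zero]
  -- rank nullity
  have key : ∀ W : Submodule F V, finrank F W ≤ finrank F (W.map (u - 1)) + finrank F (fx u) := by
    intro W
    have h1 := LinearMap.finrank_range_add_finrank_ker ((u - 1).domRestrict W)
    rw [LinearMap.range_domRestrict] at h1
    have h4 : finrank F (LinearMap.ker ((u - 1).domRestrict W)) ≤ finrank F (fx u) := by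
      let φ : LinearMap.ker ((u - 1).domRestrict W) →ₗ[F] fx u :=
        LinearMap.codRestrict (fx u) (W.subtype ∘ₗ (LinearMap.ker ((u - 1).domRestrict W)).subtype) (by
          rintro ⟨⟨x, hx⟩, hx2⟩
          exact hx2)
      apply LinearMap.finrank_le_finrank_of_injective (f := φ)
      rintro ⟨⟨x, hx⟩, hx2⟩ ⟨⟨y, hy⟩, hy2⟩ hxy
      have : x = y := congrArg Subtype.val hxy
      subst this
      rfl
    omega
  rcases r1 with r1 | r1
  · have k1 := key ⊤
    have k2 := key ((⊤ : Submodule F V).map (u - 1))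
    have k3 := key (((⊤ : Submodule F V).map (u - 1)).map (u - 1))
    have k4 : ((((⊤ : Submodule F V).map (u - 1)).map (u - 1)).map (u - 1)) = ⊥ := by
      rw [eq_bot_iff]
      rintro _ ⟨_, ⟨_, ⟨x, _, rfl⟩, rfl⟩, rfl⟩
      exact LinearMap.congr_fun r5 x
    rw [k4, finrank_bot] at k3
    rw [finrank_top, h.dim] at k1
    omega
  -- `mv u ≤ fx u`
  have m1 : finrank F (mv u) = 3 := by
    have h5 := LinearMap.finrank_range_add_finrank_ker (u - 1)
    change finrank F (mv u) + finrank F (fx u) = _ at h5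
    rw [r1, h.dim] at h5
    omega
  have m2 : mv u ⊓ fx a = ⊥ := by
    have m3 := h.mod ha (mv u) (fun v hv => comm_mem_mv hab hv)
    have m4 : finrank F ↥(mv u ⊓ fx a) ≤ 2 := by
      rw [← h1]; exact Submodule.finrank_mono inf_le_right
    rw [m1] at m3
    have m5 : finrank F ↥(mv u ⊓ fx a) = 0 := by
      generalize finrank F ↥(mv u ⊓ fx a) = i at m3 m4
      interval_cases i <;> first | rfl | (exfalso; revert m3; decide)
    exact Submodule.finrank_eq_zero.1 m5
  have m6 : finrank F ↥(mv u ⊓ fx u) = 0 ∨ finrank F ↥(mv u ⊓ fx u) = 3 := by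
    have m3 := h.mod ha (mv u ⊓ fx u) (fun v hv => ⟨comm_mem_mv hab hv.1, comm_mem_fx hab hv.2⟩)
    have m4 : mv u ⊓ fx u ⊓ fx a = ⊥ := by
      rw [eq_bot_iff, ← m2]
      exact fun v hv => ⟨hv.1.1, hv.2⟩
    rw [m4, finrank_bot] at m3
    have m5 : finrank F ↥(mv u ⊓ fx u) ≤ 3 := by
      rw [← m1]; exact Submodule.finrank_mono inf_le_left
    generalize finrank F ↥(mv u ⊓ fx u) = i at m3 m5
    interval_cases i <;> first | (left; rfl) | (right; rfl) | (exfalso; revert m3; decide)
  have m7 : mv u ≤ fx u := by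
    rcases m6 with m6 | m6
    · exfalso
      rw [Submodule.finrank_eq_zero] at m6
      -- `u - 1` is injective on `mv u`
      have m8 : mv u = ⊥ := by
        rw [eq_bot_iff]
        intro v hv
        have n1 : ∀ w ∈ mv u, (u - 1) w = 0 → w = 0 := by
          intro w hw hw0
          have : w ∈ mv u ⊓ fx u := ⟨hw, hw0⟩
          rw [m6] at this
          exact (Submodule.mem_bot F).1 this
        have n2 : ∀ w, (u - 1) w ∈ mv u := fun w => ⟨w, rfl⟩
        obtain ⟨x, rfl⟩ := hv
        rw [Submodule.mem_bot]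
        exact n1 _ (n2 _) (n1 _ (n2 _) (LinearMap.congr_fun r5 x))
      rw [m8, finrank_bot] at m1
      omega
    · exact inf_eq_left.1 (Submodule.eq_of_le_of_finrank_eq inf_le_left (by rw [m6, m1]))
  -- the alternating form
  have s1 : ∀ x : V, u (u x) = u x + (u x - x) := by
    intro x
    have h5 : u ((u - 1) x) = (u - 1) x := mem_fx.1 (m7 ⟨x, rfl⟩)
    rw [LinearMap.sub_apply, Module.End.one_apply, map_sub, sub_eq_iff_eq_add] at h5
    rw [h5]
    abel
  have s2 : ∀ x y : V, polar Q x (u y - y) = - polar Q y (u x - x) := by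
    intro x y
    have e1 := polar_map hqu x (u y - y)
    have e2 : u (u y - y) = u y - y := by rw [map_sub, s1]; abel
    rw [e2] at e1
    -- `B (u x) (u y - y) = B x (u y - y)`
    have e3 := polar_map hqu x y
    have e4 : polar Q (u x) y = polar Q (u x) (u y) - polar Q (u x) (u y - y) := by
      rw [polar_sub_right]; ring
    rw [polar_comm Q y, polar_sub_left, e4, e3, e1]
    ring
  obtain ⟨W, hW⟩ := Submodule.exists_isCompl (fx u)
  have w1 : finrank F W = 3 := by
    have := Submodule.finrank_add_eq_of_isCompl hW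
    rw [r1, h.dim] at this
    omega
  let B : LinearMap.BilinForm F W := ((QuadraticMap.polarBilin Q).compl₁₂ W.subtype ((u - 1) ∘ₗ W.subtype))
  have hB : ∀ x y : W, B x y = polar Q (x : V) (u (y : V) - y) := fun x y => rfl
  have hA : B.IsAlt := by
    intro x
    have e1 := s2 x x
    have e2 : (2 : F) * polar Q (x : V) (u (x : V) - x) = 0 := by linear_combination e1
    exact (mul_eq_zero.1 e2).resolve_left h.two
  have hnd : ∀ y : W, (∀ x, B y x = 0) → y = 0 := by
    intro y hy
    have e1 : ∀ x : V, polar Q x (u (y : V) - y) = 0 := by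
      intro x
      obtain ⟨p, hp, w, hw, rfl⟩ := Submodule.mem_sup.1 (show x ∈ fx u ⊔ W by rw [hW.sup_eq_top]; trivial)
      rw [polar_add_left, s2 p, mem_fx.1 hp, sub_self, polar_zero_right, neg_zero, zero_add, s2 w]
      have := hy ⟨w, hw⟩
      rw [hB] at this
      change -polar Q (y : V) (u w - w) = 0
      rw [this, neg_zero]
    have e2 : u (y : V) - y = 0 := h.nondeg _ fun z => by rw [polar_comm]; exact e1 z
    have e3 : (y : V) ∈ fx u ⊓ W := ⟨mem_fx.2 (sub_eq_zero.1 e2), y.2⟩
    rw [hW.inf_eq_bot] at e3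
    exact Subtype.ext ((Submodule.mem_bot F).1 e3)
  have := H150.even_finrank_of_alt B hA hnd
  rw [w1] at this
  revert this
  decide

end Quad

end Cfsg.Agent.H612.Eight
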